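import Groth.Agent.Lib.Multicross2.Main
import Groth.Agent.Lib.DeltaEuler.Genus
import Groth.Agent.Lib.NodeOpen11.Pointwise
import Groth.Agent.Lib.NormFlat11.Nodal
import Groth.Agent.Lib.Ratliff.Completion
import Groth.Agent.Lib.RegLoc.Normal
import Groth.Agent.Lib.GrpSchField.SmoothRegular
import Groth.Prelude.Def_CurvBase

/-!
Delta invariants of nodal curves.
-/

set_option autoImplicit false
set_option linter.all false
set_option backward.isDefEq.respectTransparency false
universe u

open CategoryTheory Limits AlgebraicGeometry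

namespace GrothLib.Multicross2

theorem deltaInv_eq_zero_of_isIntegrallyClosed (A : Type u) [CommRing A] [IsDomain A] [IsIntegrallyClosed A] :
    Curv2.deltaInv A = 0 := by
  rw [Curv2.deltaInv, Module.length_eq_zero_iff, Submodule.Quotient.subsingleton_iff]
  refine eq_top_iff.2 fun y _ => ?_
  obtain ⟨a, ha⟩ := IsIntegrallyClosed.isIntegral_iff.1 y.2
  exact ⟨a, Subtype.ext ha⟩

variable {k : Type u} [Field k] [IsAlgClosed k] {X : Scheme.{u}} [X.Over (Spec (CommRingCat.of k))]
  [LocallyOfFiniteType (X ↘ (Spec (CommRingCat.of k)))]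

theorem deltaInv_eq_zero_of_smooth {x : X} (hx : IsClosed ({x} : Set X)) {U : X.Opens} (hxU : x ∈ U)
    (hU : Smooth (U.ι ≫ (X ↘ (Spec (CommRingCat.of k))))) : Curv2.deltaInv (X.presheaf.stalk x) = 0 := by
  haveI := hU
  have hcl : IsClosed ({⟨x, hxU⟩} : Set (U : Scheme.{u})) := by
    rw [show ({⟨x, hxU⟩} : Set (U : Scheme.{u})) = U.ι ⁻¹' {x} from by ext y; simp only [Set.mem_singleton_iff, Set.mem_preimage]; exact Subtype.ext_iff]
    exact hx.preimage U.ι.continuous
  haveI := GrothLib.GrpSchField.isRegularLocalRing_stalk_of_smooth (U.ι ≫ (X ↘ (Spec (CommRingCat.of k)))) hcl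
  haveI : IsRegularLocalRing (X.presheaf.stalk x) :=
    IsRegularLocalRing.of_ringEquiv (U.stalkIso ⟨x, hxU⟩).commRingCatIsoToRingEquiv
  haveI := GrothLib.RegLoc.isIntegrallyClosed_of_isRegularLocalRing (X.presheaf.stalk x)
  haveI := GrothLib.CMFree.isDomain_of_isRegularLocalRing (X.presheaf.stalk x)
  exact deltaInv_eq_zero_of_isIntegrallyClosed _

variable [IsReduced X] (hequi : ∀ W ∈ irreducibleComponents (X : Type u), topologicalKrullDim W = 1)

include hequi in
theorem deltaInv_node {x : X} (h : Curv2.IsNode k X x) : Curv2.deltaInv (X.presheaf.stalk x) = 1 := by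
  obtain ⟨hx, xb, rfl, e, -⟩ := h
  let K := AlgebraicClosure k
  haveI : IsIso (CommRingCat.ofHom (algebraMap k K)) :=
    (ConcreteCategory.isIso_iff_bijective _).2 IsAlgClosed.algebraMap_bijective_of_isIntegral
  haveI : IsIso (Curv2.bcFst k X K) := inferInstance
  haveI : IsLocallyNoetherian X := LocallyOfFiniteType.isLocallyNoetherian (X ↘ (Spec (CommRingCat.of k)))
  let ε := (asIso ((Curv2.bcFst k X K).stalkMap xb)).commRingCatIsoToRingEquiv
  haveI : IsNoetherianRing ((Curv2.bc k X K).presheaf.stalk xb) := isNoetherianRing_of_ringEquiv _ ε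
  obtain ⟨φ⟩ := GrothLib.Ratliff.exists_completion_congr ε
  have hspan : Ideal.span {(MvPowerSeries.X 0 * MvPowerSeries.X 1 : MvPowerSeries (Fin 2) K)} =
      Ideal.span {f : MvPowerSeries (Fin 2) K | ∃ i j : Fin 2, i ≠ j ∧ f = MvPowerSeries.X i * MvPowerSeries.X j} := by
    refine le_antisymm (Ideal.span_mono ?_) (Ideal.span_le.2 ?_)
    · rintro _ rfl
      exact ⟨0, 1, by decide, rfl⟩
    · rintro _ ⟨i, j, hij, rfl⟩
      refine Ideal.mem_span_singleton'.2 ⟨1, ?_⟩
      fin_cases i <;> fin_cases j <;> simp_all [mul_comm]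
  obtain ⟨hd, -⟩ := delta_branches_of_completion (X.presheaf.stalk (Curv2.bcFst k X K xb))
    (GrothLib.DeltaBC4.isNagata_stalk k X _)
    (GrothLib.NodeOpen11.stalk_dim_of_closed (X ↘ (Spec (CommRingCat.of k))) hequi _ hx) 2
    ((φ.trans e).trans (Ideal.quotEquivOfEq hspan))
  have h2 : Curv2.deltaInv (X.presheaf.stalk (Curv2.bcFst k X K xb)) + 1 = 1 + 1 := hd.trans (by norm_num)
  exact WithTop.add_right_cancel ENat.one_ne_top h2

open Classical in
include hequi in
theorem finsum_delta_eq_card_nodes (hX : Curv2.AtWorstNodal k X) :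
    (∑ᶠ x : X, (if IsClosed ({x} : Set X) then ((Curv2.deltaInv (X.presheaf.stalk x)).toNat : ℤ) else 0)) =
      Nat.card {x : X // Curv2.IsNode k X x} := by
  have h : ∀ x : X, (if IsClosed ({x} : Set X) then ((Curv2.deltaInv (X.presheaf.stalk x)).toNat : ℤ) else 0) =
      if Curv2.IsNode k X x then 1 else 0 := by
    intro x
    by_cases hn : Curv2.IsNode k X x
    · rw [if_pos hn, if_pos hn.1, deltaInv_node hequi hn]; simp
    · rw [if_neg hn]
      split_ifs with hc
      · obtain ⟨U, hxU, hU⟩ := (hX x hc).resolve_right hn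
        rw [deltaInv_eq_zero_of_smooth hc hxU hU]; simp
      · rfl
  simp only [h]
  have hs : Function.support (fun x : X => if Curv2.IsNode k X x then (1 : ℤ) else 0) = {x | Curv2.IsNode k X x} := by
    ext x; simp
  by_cases hf : {x : X | Curv2.IsNode k X x}.Finite
  · rw [finsum_eq_sum_of_support_subset _ (s := hf.toFinset) (by rw [hs]; simp),
      show Nat.card {x : X // Curv2.IsNode k X x} = hf.toFinset.card from Nat.card_eq_card_finite_toFinset hf,
      Finset.sum_congr rfl (fun x hx => if_pos (show Curv2.IsNode k X x from hf.mem_toFinset.1 hx))]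
    simp
  · rw [finsum_of_infinite_support (by rw [hs]; exact hf)]
    haveI : Infinite {x : X // Curv2.IsNode k X x} := Set.infinite_coe_iff.2 hf
    simp
end GrothLib.Multicross2
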