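import Mathlib

/-!
The axes of `k[[T_1, …, T_n]] / (T_i T_j)`.
-/

set_option autoImplicit false
set_option linter.all false
universe u

namespace GrothLib.Multicross2

variable (k : Type u) [CommRing k] (n : ℕ)

/-- Restriction to the axes. -/
noncomputable def axes : MvPowerSeries (Fin n) k →+* (Fin n → PowerSeries k) :=
  Pi.ringHom fun s =>
    { toFun := fun f => PowerSeries.mk fun m => MvPowerSeries.coeff (Finsupp.single s m) f
      map_one' := PowerSeries.ext fun m => by classical simp [PowerSeries.coeff_one, MvPowerSeries.coeff_one]
      map_mul' := fun f g => PowerSeries.ext fun m => by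
        classical
        rw [PowerSeries.coeff_mk, PowerSeries.coeff_mul, MvPowerSeries.coeff_mul, Finsupp.antidiagonal_single,
          Finset.sum_map]
        simp
      map_zero' := PowerSeries.ext fun m => by simp
      map_add' := fun f g => PowerSeries.ext fun m => by simp }

theorem coeff_axes (f : MvPowerSeries (Fin n) k) (s : Fin n) (m : ℕ) :
    PowerSeries.coeff m (axes k n f s) = MvPowerSeries.coeff (Finsupp.single s m) f :=
  PowerSeries.coeff_mk (R := k) m (fun m => MvPowerSeries.coeff (Finsupp.single s m) f)

theorem axes_X_mul_X {i j : Fin n} (h : i ≠ j) :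
    axes k n (MvPowerSeries.X i * MvPowerSeries.X j) = 0 := by
  classical
  funext s
  ext m
  rw [coeff_axes, Pi.zero_apply, map_zero, MvPowerSeries.X_def, MvPowerSeries.X_def,
    MvPowerSeries.monomial_mul_monomial, MvPowerSeries.coeff_monomial, if_neg]
  intro hd
  have hi := DFunLike.congr_fun hd i
  have hj := DFunLike.congr_fun hd j
  simp only [Finsupp.add_apply, Finsupp.single_eq_same, Finsupp.single_apply] at hi hj
  split_ifs at hi hj <;> omega

theorem axes_eq_zero_iff (f : MvPowerSeries (Fin n) k) (hn : 0 < n) :
    axes k n f = 0 ↔ f ∈ Ideal.span {f : MvPowerSeries (Fin n) k |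
      ∃ i j : Fin n, i ≠ j ∧ f = MvPowerSeries.X i * MvPowerSeries.X j} := by
  classical
  constructor
  · intro h0
    have hax : ∀ (s : Fin n) (m : ℕ), MvPowerSeries.coeff (Finsupp.single s m) f = 0 := fun s m => by
      rw [← coeff_axes, h0]; simp
    let g : Fin n → Fin n → MvPowerSeries (Fin n) k := fun i j d =>
      if ∀ l, d l ≠ 0 → l = i ∨ j ≤ l then MvPowerSeries.coeff (d + (Finsupp.single i 1 + Finsupp.single j 1)) f else 0
    have hf : f = ∑ p ∈ (Finset.univ.filter fun p : Fin n × Fin n => p.1 < p.2),
        MvPowerSeries.X p.1 * MvPowerSeries.X p.2 * g p.1 p.2 := by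
      ext d
      rw [map_sum]
      simp only [MvPowerSeries.X_def, MvPowerSeries.monomial_mul_monomial, mul_one,
        MvPowerSeries.coeff_monomial_mul, one_mul]
      by_cases h1 : ∃ i j : Fin n, i < j ∧ d i ≠ 0 ∧ d j ≠ 0
      · let S := d.support
        have hS : S.Nonempty := by
          obtain ⟨i, _, _, hi, _⟩ := h1; exact ⟨i, Finsupp.mem_support_iff.2 hi⟩
        let i₀ := S.min' hS
        have hS' : (S.erase i₀).Nonempty := by
          obtain ⟨i, j, hij, hi, hj⟩ := h1
          have hle : i₀ ≤ i := S.min'_le i (Finsupp.mem_support_iff.2 hi)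
          exact ⟨j, Finset.mem_erase.2 ⟨fun h => absurd hij (not_lt.2 (h ▸ hle)), Finsupp.mem_support_iff.2 hj⟩⟩
        let j₀ := (S.erase i₀).min' hS'
        have hj₀ := Finset.mem_erase.1 ((S.erase i₀).min'_mem hS')
        have hi₀ := Finsupp.mem_support_iff.1 (S.min'_mem hS)
        have hlt : i₀ < j₀ := lt_of_le_of_ne (S.min'_le _ hj₀.2) (Ne.symm hj₀.1)
        have hle : Finsupp.single i₀ 1 + Finsupp.single j₀ 1 ≤ d := fun l => by
          simp only [Finsupp.add_apply, Finsupp.single_apply]
          have hj := Finsupp.mem_support_iff.1 hj₀.2
          split_ifs with ha hb <;> try subst ha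
          all_goals (try subst_vars)
          all_goals (first | omega | exact absurd rfl (ne_of_lt hlt) | (change 1 ≤ _; exact Nat.one_le_iff_ne_zero.2 ‹_›) | skip)
        rw [Finset.sum_eq_single (i₀, j₀)]
        · rw [if_pos hle]
          show _ = g i₀ j₀ (d - _)
          simp only [g]
          rw [if_pos, tsub_add_cancel_of_le hle]
          intro l hl
          have hl' : d l ≠ 0 := fun h => hl (by simp [h])
          by_cases h : l = i₀
          · exact Or.inl h
          · exact Or.inr ((S.erase i₀).min'_le l (Finset.mem_erase.2 ⟨h, Finsupp.mem_support_iff.2 hl'⟩))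
        · rintro ⟨i, j⟩ hp hne
          simp only [Finset.mem_filter, Finset.mem_univ, true_and] at hp
          split_ifs with hle'
          · show g i j (d - _) = 0
            simp only [g]
            rw [if_neg]
            intro hall
            have hall' : ∀ l, d l ≠ 0 → l = i ∨ j ≤ l := fun l hl => by
              by_cases h : l = i
              · exact Or.inl h
              by_cases h' : l = j
              · exact Or.inr h'.ge
              refine hall l ?_
              simp [Finsupp.single_apply, Ne.symm h, Ne.symm h', hl]
            have hdi : d i ≠ 0 := by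
              have := hle' i; simp [Finsupp.single_apply] at this; omega
            have hdj : d j ≠ 0 := by
              have := hle' j; simp [Finsupp.single_apply] at this; omega
            have e1 : i₀ = i := by
              refine le_antisymm (S.min'_le _ (Finsupp.mem_support_iff.2 hdi)) ?_
              rcases hall' i₀ hi₀ with h | h
              · exact h.ge
              · exact (hp.le).trans h
            have e2 : j₀ = j := by
              refine le_antisymm ((S.erase i₀).min'_le _ (Finset.mem_erase.2 ⟨e1 ▸ ne_of_gt hp, Finsupp.mem_support_iff.2 hdj⟩)) ?_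
              rcases hall' j₀ (Finsupp.mem_support_iff.1 hj₀.2) with h | h
              · exact absurd (h.trans e1.symm) hj₀.1
              · exact h
            exact hne (by rw [e1, e2])
          · rfl
        · intro h
          exact absurd (Finset.mem_filter.2 ⟨Finset.mem_univ (i₀, j₀), hlt⟩ : (i₀, j₀) ∈ Finset.univ.filter fun p : Fin n × Fin n => p.1 < p.2) h
      · push Not at h1
        have hd : MvPowerSeries.coeff d f = 0 := by
          by_cases hd0 : d = 0
          · subst hd0
            simpa using hax ⟨0, hn⟩ 0
          · obtain ⟨i, hi⟩ := Finsupp.ne_iff.1 hd0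
            simp only [Finsupp.coe_zero, Pi.zero_apply] at hi
            have : d = Finsupp.single i (d i) := by
              ext l
              by_cases h : l = i
              · subst h; simp
              · rw [Finsupp.single_eq_of_ne h]
                rcases lt_or_gt_of_ne h with h' | h'
                · by_contra hl; exact hi (h1 l i h' hl)
                · exact h1 i l h' hi
            rw [this]; exact hax _ _
        rw [hd]
        refine (Finset.sum_eq_zero ?_).symm
        rintro ⟨i, j⟩ hp
        simp only [Finset.mem_filter, Finset.mem_univ, true_and] at hp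
        split_ifs with hle'
        · exfalso
          have hi := hle' i
          have hj := hle' j
          simp [Finsupp.single_apply] at hi hj
          exact absurd (h1 i j hp (by omega)) (by omega)
        · rfl
    rw [hf]
    refine Ideal.sum_mem _ fun p hp => Ideal.mul_mem_right _ _ (Ideal.subset_span ?_)
    exact ⟨p.1, p.2, ne_of_lt (Finset.mem_filter.1 hp).2, rfl⟩
  · intro hf
    have : Ideal.span {f : MvPowerSeries (Fin n) k |
        ∃ i j : Fin n, i ≠ j ∧ f = MvPowerSeries.X i * MvPowerSeries.X j} ≤ RingHom.ker (axes k n) := by
      rw [Ideal.span_le]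
      rintro _ ⟨i, j, hij, rfl⟩
      exact axes_X_mul_X k n hij
    exact this hf

theorem range_axes (hn : 0 < n) :
    Set.range (axes k n) = {f : Fin n → PowerSeries k |
      ∀ i j : Fin n, PowerSeries.constantCoeff (f i) = PowerSeries.constantCoeff (f j)} := by
  classical
  ext F
  constructor
  · rintro ⟨f, rfl⟩ i j
    rw [← PowerSeries.coeff_zero_eq_constantCoeff, coeff_axes, coeff_axes, Finsupp.single_zero, Finsupp.single_zero]
  · intro hF
    let f : MvPowerSeries (Fin n) k := fun d => if d = 0 then PowerSeries.constantCoeff (F ⟨0, hn⟩) else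
      ∑ i, if d.support = {i} then PowerSeries.coeff (d i) (F i) else 0
    refine ⟨f, funext fun s => PowerSeries.ext fun m => ?_⟩
    rw [coeff_axes]
    show f (Finsupp.single s m) = _
    by_cases hm : m = 0
    · subst hm
      simp [f, hF ⟨0, hn⟩ s]
    · simp only [f, Finsupp.single_eq_zero, hm, if_false, Finsupp.support_single_ne_zero s hm]
      rw [Finset.sum_eq_single s] <;> simp +contextual [eq_comm]

end GrothLib.Multicross2
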