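import Groth.Agent.Lib.DeltaEuler.Algebra
import Groth.Agent.Lib.RedTotal.Branches
import Groth.Prelude.Def_Curv2
import Groth.Prelude.Def_Brnch
import Mathlib.RingTheory.LocalRing.Length
import Mathlib.RingTheory.PowerSeries.Inverse

/-!
Delta invariant and branches of a multicross ring.
-/

set_option autoImplicit false
set_option linter.all false
universe u

namespace GrothLib.Multicross2

theorem isDomain_normal_localization_pi {n : ℕ} {F : Fin n → Type u} [∀ i, CommRing (F i)]
    [∀ i, IsDomain (F i)] [∀ i, IsIntegrallyClosed (F i)] (q : Ideal (∀ i, F i)) [hq : q.IsPrime] :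
    IsDomain (Localization.AtPrime q) ∧ IsIntegrallyClosed (Localization.AtPrime q) := by
  classical
  obtain ⟨i, hi⟩ : ∃ i, (Pi.single i 1 : ∀ i, F i) ∉ q := by
    by_contra! h
    refine hq.ne_top ((Ideal.eq_top_iff_one q).2 ?_)
    rw [← Finset.univ_sum_single (1 : ∀ i, F i)]
    exact Ideal.sum_mem _ fun j _ => h j
  have hker : RingHom.ker (Pi.evalRingHom F i) ≤ q := fun b hb => by
    refine (hq.mem_or_mem (show Pi.single i 1 * b ∈ q from ?_)).resolve_left hi
    rw [show Pi.single i 1 * b = (0 : ∀ j, F j) from funext fun j => ?_]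
    · exact q.zero_mem
    · by_cases h : j = i
      · subst h; rw [Pi.mul_apply, show b j = 0 from hb, mul_zero]; rfl
      · simp [h]
  have hsurj : Function.Surjective (Pi.evalRingHom F i) := fun x => ⟨Pi.single i x, by simp⟩
  let I := q.map (Pi.evalRingHom F i)
  haveI : I.IsPrime := Ideal.map_isPrime_of_surjective hsurj hker
  have hI : I.comap (Pi.evalRingHom F i) = q := by
    rw [Ideal.comap_map_of_surjective _ hsurj, sup_eq_left]
    exact hker
  clear_value I
  subst hI
  let e := RingEquiv.ofBijective _ (Localization.AtPrime.mapPiEvalRingHom_bijective I)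
  haveI : IsDomain (Localization.AtPrime I) :=
    IsLocalization.isDomain_localization (le_nonZeroDivisors_of_noZeroDivisors fun h => h I.zero_mem)
  haveI : IsIntegrallyClosed (Localization.AtPrime I) :=
    isIntegrallyClosed_of_isLocalization _ I.primeCompl (le_nonZeroDivisors_of_noZeroDivisors fun h => h I.zero_mem)
  exact ⟨e.toMulEquiv.isDomain _, IsIntegrallyClosed.of_equiv e.symm⟩

variable {k : Type u} [Field k] {C : Type u} [CommRing C] [IsLocalRing C] [IsNoetherianRing C]

/-- A local ring with an injection into `k[[t]]^(n+1)` onto the tuples with a common constant term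
has delta invariant `n` and `n + 1` branches. -/
theorem delta_and_branches {n : ℕ} (φ : C →+* (Fin (n + 1) → PowerSeries k)) (hφ : Function.Injective φ)
    (hrange : Set.range φ = {f : Fin (n + 1) → PowerSeries k |
      ∀ i j, PowerSeries.constantCoeff (f i) = PowerSeries.constantCoeff (f j)}) :
    Curv2.deltaInv C = n ∧ Brnch.numBranches C = (n + 1 : ℕ) := by
  classical
  let B := Fin (n + 1) → PowerSeries k
  letI : Algebra C B := φ.toAlgebra
  have hmem : ∀ b : B, (∀ i j, PowerSeries.constantCoeff (b i) = PowerSeries.constantCoeff (b j)) →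
      ∃ a : C, algebraMap C B a = b := fun b hb => by
    have : b ∈ Set.range φ := by rw [hrange]; exact hb
    exact this
  haveI : _root_.IsReduced C := isReduced_of_injective φ hφ
  obtain ⟨f, hf⟩ := hmem (fun _ => PowerSeries.X) (fun i j => rfl)
  have hfB : algebraMap C B f ∈ nonZeroDivisors B := by
    rw [hf, mem_nonZeroDivisors_iff_right]
    intro b hb
    funext i
    exact (mul_eq_zero.1 (congrFun hb i)).resolve_right PowerSeries.X_ne_zero
  have hfC : f ∈ nonZeroDivisors C := by
    rw [mem_nonZeroDivisors_iff_right]
    intro a ha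
    refine hφ ?_
    rw [map_zero]
    exact (mem_nonZeroDivisors_iff_right.1 hfB) _ (by show φ a * φ f = 0; rw [← map_mul, ha, map_zero])
  have hgen : ∀ b : B, ∃ (m : ℕ) (a : C), algebraMap C B a = algebraMap C B f ^ m * b := fun b => by
    obtain ⟨a, ha⟩ := hmem (algebraMap C B f * b) (fun i j => by rw [hf]; show PowerSeries.constantCoeff (PowerSeries.X * b i) = PowerSeries.constantCoeff (PowerSeries.X * b j); simp)
    exact ⟨1, a, by rw [pow_one]; exact ha⟩
  haveI : Module.Finite C B := by
    refine ⟨⟨Finset.univ.image fun i => (Pi.single i 1 : B), eq_top_iff.2 fun b _ => ?_⟩⟩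
    choose c hc using fun i => hmem (fun _ => b i) (fun _ _ => rfl)
    have : b = ∑ i, c i • (Pi.single i 1 : B) := by
      funext j
      refine Eq.symm ((Finset.sum_apply j _ _).trans ((Finset.sum_eq_single j ?_ ?_).trans ?_))
      · intro i _ hi
        show (algebraMap C B (c i) * (Pi.single i (1 : PowerSeries k) : B) : B) j = 0
        rw [Pi.mul_apply, Pi.single_eq_of_ne hi.symm, mul_zero]
      · exact fun h => absurd (Finset.mem_univ j) h
      · show (algebraMap C B (c j) * (Pi.single j (1 : PowerSeries k) : B) : B) j = b j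
        rw [Pi.mul_apply, Pi.single_eq_same, mul_one, hc]
    rw [this]
    exact Submodule.sum_mem _ fun i _ => Submodule.smul_mem _ _ (Submodule.subset_span
      (by simp))
  haveI : Algebra.IsIntegral C B := Algebra.IsIntegral.of_finite C B
  haveI : IsLocalization (IsLocalRing.maximalIdeal C).primeCompl C :=
    IsLocalization.self fun s hs => show IsUnit s by simpa [IsLocalRing.mem_maximalIdeal] using hs
  haveI : IsLocalizedModule (IsLocalRing.maximalIdeal C).primeCompl (LinearMap.id : B →ₗ[C] B) :=
    { map_units := fun s => by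
        have hu : IsUnit (s : C) := IsLocalRing.notMem_maximalIdeal.1 s.2
        exact hu.map _
      surj := fun b => ⟨⟨b, 1⟩, one_smul _ _⟩
      exists_of_eq := fun h => ⟨1, by simpa using h⟩ }
  obtain ⟨e, he⟩ := GrothLib.DeltaEuler.exists_equiv_integralClosure (R := C) (B := B) hφ f hfC hfB hgen
    (fun q _ => isDomain_normal_localization_pi q) (IsLocalRing.maximalIdeal C) C B LinearMap.id
  simp only [LinearMap.id_coe, id_eq] at he
  let IC := integralClosure C (FractionRing C)
  have hf' : ∀ a : C, e (algebraMap C B a) = algebraMap C IC a := fun a => by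
    rw [Algebra.algebraMap_eq_smul_one, map_smul, he, Algebra.algebraMap_eq_smul_one]
  -- `e` is multiplicative
  have hmul : ∀ b b', e (b * b') = e b * e b' := by
    intro b b'
    obtain ⟨m, a, ha⟩ := hgen b
    have h1 : (f ^ m) • e (b * b') = (f ^ m) • (e b * e b') := by
      rw [← map_smul, ← smul_mul_assoc (f ^ m) (e b) (e b'), ← map_smul e (f ^ m) b]
      have h2 : f ^ m • b = algebraMap C B a := by rw [Algebra.smul_def, map_pow, ha]
      have h3 : f ^ m • (b * b') = a • b' := by rw [← smul_mul_assoc, h2, Algebra.smul_def]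
      rw [h3, h2, hf', map_smul, Algebra.smul_def a (e b')]
    have hu : IsUnit (algebraMap C (FractionRing C) (f ^ m)) :=
      IsLocalization.map_units (FractionRing C) (⟨f ^ m, pow_mem hfC m⟩ : nonZeroDivisors C)
    refine Subtype.ext (hu.mul_right_injective ?_)
    have h4 := congrArg (fun z : IC => (z : FractionRing C)) h1
    simpa [Algebra.smul_def] using h4
  let E : B ≃+* IC := { e with map_mul' := hmul }
  haveI : Module.Finite C IC := Module.Finite.equiv e
  -- the delta invariant
  have hδ : Curv2.deltaInv C = n := by
    have hS : (LinearMap.range (Algebra.linearMap C B)).map (e : B →ₗ[C] IC) =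
        LinearMap.range (Algebra.linearMap C IC) := by
      rw [← LinearMap.range_comp]
      congr 1
      exact LinearMap.ext fun a => hf' a
    rw [Curv2.deltaInv, ← (Submodule.Quotient.equiv _ _ e hS).length_eq]
    let σ : k →+* B := algebraMap k B
    have hσ : ∀ (c : k) (i : Fin (n + 1)), PowerSeries.constantCoeff (σ c i) = c := fun c i => by
      show PowerSeries.constantCoeff (algebraMap k (PowerSeries k) c) = c
      rw [PowerSeries.algebraMap_apply]; simp
    have hσm : ∀ c, ∀ i j, PowerSeries.constantCoeff (σ c i) = PowerSeries.constantCoeff (σ c j) :=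
      fun c i j => by rw [hσ, hσ]
    let s : k → C := fun c => (hmem (σ c) (hσm c)).choose
    have hs : ∀ c, φ (s c) = σ c := fun c => (hmem (σ c) (hσm c)).choose_spec
    let ι : k →+* C :=
      { toFun := s
        map_one' := hφ (by rw [hs, map_one, map_one])
        map_mul' := fun a b => hφ (by rw [hs, map_mul, map_mul, hs, hs])
        map_zero' := hφ (by rw [hs, map_zero, map_zero])
        map_add' := fun a b => hφ (by rw [hs, map_add, map_add, hs, hs]) }
    letI : Algebra k C := ι.toAlgebra
    haveI : IsScalarTower k C B := IsScalarTower.of_algebraMap_eq fun c => (hs c).symm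
    -- the constant terms modulo the diagonal
    let χ : B →ₗ[k] (Fin n → k) :=
      { toFun := fun b i => PowerSeries.constantCoeff (b i.succ) - PowerSeries.constantCoeff (b 0)
        map_add' := fun a b => funext fun i => by
          show PowerSeries.constantCoeff (a i.succ + b i.succ) - PowerSeries.constantCoeff (a 0 + b 0) =
            (PowerSeries.constantCoeff (a i.succ) - PowerSeries.constantCoeff (a 0)) +
              (PowerSeries.constantCoeff (b i.succ) - PowerSeries.constantCoeff (b 0))
          rw [map_add, map_add]; abel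
        map_smul' := fun c b => funext fun i => by
          show PowerSeries.constantCoeff ((c • b) i.succ) - PowerSeries.constantCoeff ((c • b) 0) =
            c * (PowerSeries.constantCoeff (b i.succ) - PowerSeries.constantCoeff (b 0))
          rw [Algebra.smul_def, Pi.mul_apply, Pi.mul_apply, map_mul, map_mul, show algebraMap k B = σ from rfl,
            hσ, hσ, mul_sub] }
    have hχ : Function.Surjective χ := fun v => by
      refine ⟨Fin.cons 0 (fun i => PowerSeries.C (v i)), funext fun i => ?_⟩
      show PowerSeries.constantCoeff ((Fin.cons 0 fun i => PowerSeries.C (v i) : B) i.succ) -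
        PowerSeries.constantCoeff ((Fin.cons 0 fun i => PowerSeries.C (v i) : B) 0) = v i
      simp
    have hker : LinearMap.ker χ = (LinearMap.range (Algebra.linearMap C B)).restrictScalars k := by
      ext b
      constructor
      · intro hb
        have h0 : ∀ i : Fin n, PowerSeries.constantCoeff (b i.succ) = PowerSeries.constantCoeff (b 0) :=
          fun i => sub_eq_zero.1 (congrFun (LinearMap.mem_ker.1 hb) i)
        have h1 : ∀ i, PowerSeries.constantCoeff (b i) = PowerSeries.constantCoeff (b 0) :=
          fun i => Fin.cases rfl h0 i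
        exact hmem b fun i j => (h1 i).trans (h1 j).symm
      · rintro ⟨a, rfl⟩
        refine LinearMap.mem_ker.2 (funext fun i => sub_eq_zero.2 ?_)
        have : φ a ∈ Set.range φ := ⟨a, rfl⟩
        rw [hrange] at this
        exact this _ _
    let Q := B ⧸ LinearMap.range (Algebra.linearMap C B)
    let eQ : Q ≃ₗ[k] (Fin n → k) :=
      ((Submodule.Quotient.restrictScalarsEquiv k (LinearMap.range (Algebra.linearMap C B))).symm.trans
        (Submodule.quotEquivOfEq _ _ hker.symm)).trans (χ.quotKerEquivOfSurjective hχ)
    haveI : Module.Finite k Q := Module.Finite.equiv eQ.symm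
    haveI : IsLocalHom (algebraMap k C) := ⟨fun a ha => isUnit_iff_ne_zero.2 fun h => by
      rw [h, map_zero] at ha; exact not_isUnit_zero ha⟩
    have hres : Function.Surjective (algebraMap k (IsLocalRing.ResidueField C)) := fun z => by
      obtain ⟨a, rfl⟩ := IsLocalRing.residue_surjective z
      refine ⟨PowerSeries.constantCoeff (φ a 0), Ideal.Quotient.eq.2 ?_⟩
      rw [IsLocalRing.mem_maximalIdeal, mem_nonunits_iff]
      intro hu
      have h1 := hu.map ((PowerSeries.constantCoeff).comp ((Pi.evalRingHom _ (0 : Fin (n + 1))).comp φ))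
      have h2 : PowerSeries.constantCoeff (φ (ι (PowerSeries.constantCoeff (φ a 0)) - a) 0) = 0 := by
        rw [map_sub, show φ (ι _) = _ from hs _, Pi.sub_apply, map_sub, hσ, sub_self]
      exact not_isUnit_zero (h2 ▸ h1 : IsUnit (0 : k))
    have h := IsLocalRing.length_restrictScalars k C Q
    rw [← Module.length_eq_of_surjective (M := IsLocalRing.ResidueField C)
      (IsLocalRing.residue_surjective (R := k)),
      Module.length_eq_of_surjective (R := IsLocalRing.ResidueField C) (S := k) (M := IsLocalRing.ResidueField C) hres,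
      Module.length_eq_one (IsLocalRing.ResidueField C), mul_one, eQ.length_eq, Module.length_eq_finrank,
      Module.finrank_fin_fun] at h
    exact h.symm
  refine ⟨hδ, ?_⟩
  -- the branches
  obtain ⟨Φ, -⟩ := GrothLib.RedTotal.exists_equiv_normRed C
  rw [Brnch.numBranches, if_pos (GrothLib.RedTotal.finite_minimalPrimes C)]
  let Ψ : B ≃+* CAlg2.normRed C := E.trans Φ.symm
  haveI : ∀ i : Fin (n + 1), ((IsLocalRing.maximalIdeal (PowerSeries k)).comap
      (Pi.evalRingHom (fun _ : Fin (n + 1) => PowerSeries k) i)).IsMaximal := fun i =>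
    Ideal.comap_isMaximal_of_surjective _ fun x => ⟨fun _ => x, rfl⟩
  let pt : Fin (n + 1) → MaximalSpectrum (CAlg2.normRed C) := fun i =>
    ⟨((IsLocalRing.maximalIdeal (PowerSeries k)).comap (Pi.evalRingHom (fun _ : Fin (n + 1) => PowerSeries k) i)).map
      Ψ.toRingHom, Ideal.map_isMaximal_of_equiv Ψ⟩
  have hpt : Function.Bijective pt := by
    have hmapinj : ∀ I J : Ideal B, I.map Ψ.toRingHom = J.map Ψ.toRingHom → I = J := fun I J h => by
      rw [← Ideal.comap_map_of_bijective Ψ.toRingHom Ψ.bijective (I := I), h,
        Ideal.comap_map_of_bijective Ψ.toRingHom Ψ.bijective]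
    constructor
    · intro i j hij
      by_contra hne
      have h := hmapinj _ _ (congrArg MaximalSpectrum.asIdeal hij)
      have h1 : (Pi.single j 1 : B) ∈ (IsLocalRing.maximalIdeal (PowerSeries k)).comap
          (Pi.evalRingHom (fun _ : Fin (n + 1) => PowerSeries k) i) := by
        simp [Ideal.mem_comap, hne]
      rw [h] at h1
      simp [Ideal.mem_comap] at h1
    · intro M
      haveI := M.isMaximal
      let m := M.asIdeal.comap Ψ.toRingHom
      haveI : m.IsMaximal := Ideal.comap_isMaximal_of_surjective _ Ψ.surjective
      obtain ⟨i, hi⟩ : ∃ i, (Pi.single i 1 : B) ∉ m := by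
        by_contra! h
        refine Ideal.IsMaximal.ne_top ‹m.IsMaximal› ((Ideal.eq_top_iff_one m).2 ?_)
        rw [← Finset.univ_sum_single (1 : B)]
        exact Ideal.sum_mem _ fun j _ => h j
      refine ⟨i, MaximalSpectrum.ext ?_⟩
      have hm : m = (IsLocalRing.maximalIdeal (PowerSeries k)).comap
          (Pi.evalRingHom (fun _ : Fin (n + 1) => PowerSeries k) i) := by
        refine (Ideal.IsMaximal.eq_of_le (inferInstance : ((IsLocalRing.maximalIdeal (PowerSeries k)).comap (Pi.evalRingHom (fun _ : Fin (n + 1) => PowerSeries k) i)).IsMaximal) (Ideal.IsMaximal.ne_top ‹m.IsMaximal›) fun b hb => ?_).symm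
        by_contra hbm
        obtain ⟨c, y, hy, hcy⟩ := Ideal.IsMaximal.exists_inv ‹m.IsMaximal› hbm
        have h1 : c i * b i + y i = 1 := congrFun hcy i
        have hyu : IsUnit (y i) := by
          have h2 : c i * b i ∈ IsLocalRing.maximalIdeal (PowerSeries k) := Ideal.mul_mem_left _ _ hb
          rw [IsLocalRing.mem_maximalIdeal, mem_nonunits_iff] at h2
          exact (IsLocalRing.isUnit_or_isUnit_of_add_one h1).resolve_left h2
        refine hi ?_
        have h3 : (Pi.single i 1 : B) = Pi.single i (↑hyu.unit⁻¹ : PowerSeries k) * y := by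
          funext j
          by_cases h : j = i
          · subst h
            show (Pi.single j (1 : PowerSeries k) : B) j = (Pi.single j (↑hyu.unit⁻¹ : PowerSeries k) : B) j * y j
            rw [Pi.single_eq_same, Pi.single_eq_same, hyu.val_inv_mul]
          · show (Pi.single i (1 : PowerSeries k) : B) j = (Pi.single i (↑hyu.unit⁻¹ : PowerSeries k) : B) j * y j
            rw [Pi.single_eq_of_ne h, Pi.single_eq_of_ne h, zero_mul]
        rw [h3]
        exact m.mul_mem_left _ hy
      show Ideal.map Ψ.toRingHom _ = M.asIdeal
      rw [← hm]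
      exact Ideal.map_comap_of_surjective _ Ψ.surjective _
  rw [← ENat.card_congr (Equiv.ofBijective pt hpt), ENat.card_eq_coe_natCard, Nat.card_fin]

end GrothLib.Multicross2
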