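import Groth.Agent.Lib.SecSeries.Basic
import Groth.Agent.Lib.AdicExtra.Completion
import Groth.Agent.Lib.CMFree.Regular
import Mathlib.RingTheory.AdicCompletion.LocalRing
import Mathlib.RingTheory.DiscreteValuationRing.TFAE

/-!
Expansion of a ring in a uniformiser at a maximal ideal whose local ring is a discrete valuation ring.
-/

set_option autoImplicit false
set_option linter.all false
universe u

open IsLocalRing

namespace GrothLib.Multicross2

/-- `τ : B → k[[t]]` with `b ∈ m ^ r ↔ t ^ r ∣ τ b` and dense image. -/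
theorem exists_expansion {k B : Type u} [Field k] [CommRing B] [Algebra k B] [IsNoetherianRing B]
    (m : Ideal B) [hm : m.IsMaximal] [IsDomain (Localization.AtPrime m)]
    [IsDiscreteValuationRing (Localization.AtPrime m)]
    (hres : Function.Surjective (algebraMap k (B ⧸ m))) :
    ∃ τ : B →+* PowerSeries k, (∀ c, τ (algebraMap k B c) = PowerSeries.C c) ∧
      (∀ b r, b ∈ m ^ r ↔ PowerSeries.X ^ r ∣ τ b) ∧
      (∀ w r, ∃ b, PowerSeries.X ^ r ∣ τ b - w) := by
  classical
  let O := Localization.AtPrime m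
  let R := AdicCompletion (maximalIdeal O) O
  -- a uniformiser from `B`
  obtain ⟨p, hp⟩ := IsDiscreteValuationRing.exists_irreducible O
  obtain ⟨⟨π, s⟩, hπ⟩ := IsLocalization.surj m.primeCompl p
  have hπ' : maximalIdeal O = Ideal.span {algebraMap B O π} := by
    rw [hp.maximalIdeal_eq, ← show p * algebraMap B O s = algebraMap B O π from hπ,
      Ideal.span_singleton_mul_right_unit (IsLocalization.map_units O s)]
  let g : B →+* R := (algebraMap O R).comp (algebraMap B O)
  let x : R := g π
  letI : Algebra k R := (g.comp (algebraMap k B)).toAlgebra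
  have hmaxR : maximalIdeal R = Ideal.span {x} := by
    refine AdicCompletion.maximalIdeal_eq_map.trans ?_
    refine (congrArg (Ideal.map (algebraMap O R)) hπ').trans ?_
    rw [Ideal.map_span, Set.image_singleton]
    rfl
  haveI : IsAdicComplete (Ideal.span {x}) R := by
    rw [← hmaxR, AdicCompletion.maximalIdeal_eq_map]
    exact AdicCompletion.isAdicComplete_self _ (maximalIdeal O).fg_of_isNoetherianRing
  haveI : IsRegularLocalRing R := GrothLib.AdicExtra.isRegularLocalRing_adicCompletion_iff.1 inferInstance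
  haveI := GrothLib.CMFree.isDomain_of_isRegularLocalRing R
  have hinjR : Function.Injective (algebraMap O R) := fun a b hab =>
    AdicCompletion.of_injective (maximalIdeal O) O hab
  have hx0 : x ≠ 0 := fun h => by
    have h1 : algebraMap B O π = 0 := hinjR (h.trans (map_zero _).symm)
    rw [h1] at hπ'
    exact IsDiscreteValuationRing.not_a_field O (hπ'.trans (Ideal.span_singleton_eq_bot.2 rfl))
  have hOk : ∀ a : O, ∃ c : k, a - algebraMap B O (algebraMap k B c) ∈ maximalIdeal O := fun a => by
    obtain ⟨⟨b, s⟩, hb⟩ := IsLocalization.surj m.primeCompl a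
    letI := Ideal.Quotient.field m
    obtain ⟨c, hc⟩ := hres (Ideal.Quotient.mk m b / Ideal.Quotient.mk m s.1)
    refine ⟨c, ?_⟩
    have h1 : b - algebraMap k B c * s.1 ∈ m := by
      rw [← Ideal.Quotient.eq_zero_iff_mem, map_sub, map_mul,
        show Ideal.Quotient.mk m (algebraMap k B c) = _ from hc,
        div_mul_cancel₀ _ (fun h => s.2 (Ideal.Quotient.eq_zero_iff_mem.1 h)), sub_self]
    have h2 : algebraMap B O (b - algebraMap k B c * s.1) ∈ maximalIdeal O :=
      (IsLocalization.AtPrime.to_map_mem_maximal_iff O m _).2 h1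
    rw [map_sub, map_mul, ← show a * algebraMap B O s = algebraMap B O b from hb, ← sub_mul] at h2
    exact (Ideal.mul_unit_mem_iff_mem _ (IsLocalization.map_units O s)).1 h2
  have hK : Function.Bijective ((Ideal.Quotient.mk (Ideal.span {x})).comp (algebraMap k R)) := by
    haveI : Nontrivial (R ⧸ Ideal.span {x}) :=
      Ideal.Quotient.nontrivial_iff.2 (hmaxR ▸ (maximalIdeal.isMaximal R).ne_top)
    refine ⟨RingHom.injective _, fun y => ?_⟩
    obtain ⟨z, rfl⟩ := Ideal.Quotient.mk_surjective y
    obtain ⟨a, ha⟩ := Ideal.Quotient.mk_surjective (AdicCompletion.evalOneₐ (maximalIdeal O) z)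
    obtain ⟨c, hc⟩ := hOk a
    refine ⟨c, Ideal.Quotient.eq.2 ?_⟩
    rw [← hmaxR, AdicCompletion.maximalIdeal_eq_map,
      ← AdicCompletion.ker_evalOneₐ_eq_map _ (maximalIdeal O).fg_of_isNoetherianRing, RingHom.mem_ker]
    show AdicCompletion.evalOneₐ (maximalIdeal O) (algebraMap O R (algebraMap B O (algebraMap k B c)) - z) = 0
    rw [map_sub, AlgHom.commutes, ← ha]
    exact (map_sub (Ideal.Quotient.mk (maximalIdeal O)) _ _).symm.trans
      (Ideal.Quotient.eq_zero_iff_mem.2 (by rw [← neg_sub]; exact neg_mem hc))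
  obtain ⟨φ, hφX, hφ, -⟩ := GrothLib.SecSeries.exists_powerSeries_algHom_bijective k R x
    (IsSMulRegular.of_ne_zero hx0) hK
  let e := RingEquiv.ofBijective φ.toRingHom hφ
  let τ : B →+* PowerSeries k := e.symm.toRingHom.comp g
  have hτC : ∀ c, τ (algebraMap k B c) = PowerSeries.C c := fun c => by
    show e.symm (g (algebraMap k B c)) = _
    rw [RingEquiv.symm_apply_eq]
    exact (φ.commutes c).symm
  have hdvd : ∀ (z : R) (r : ℕ), z ∈ Ideal.span {x} ^ r ↔ PowerSeries.X ^ r ∣ e.symm z := fun z r => by
    rw [Ideal.span_singleton_pow, Ideal.mem_span_singleton, ← hφX]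
    constructor
    · rintro ⟨q, rfl⟩
      exact ⟨e.symm q, by rw [map_mul, map_pow]; congr 2; exact e.symm_apply_eq.2 rfl⟩
    · rintro ⟨q, hq⟩
      refine ⟨e q, ?_⟩
      have := congrArg e hq
      rw [e.apply_symm_apply, map_mul, map_pow] at this
      exact this
  refine ⟨τ, hτC, fun b r => ⟨fun hb => ?_, fun hb => ?_⟩, fun w r => ?_⟩
  · refine (hdvd _ r).1 ?_
    rw [← hmaxR]
    have h1 : g b ∈ (m.map g) ^ r := by rw [← Ideal.map_pow]; exact Ideal.mem_map_of_mem g hb
    refine Ideal.pow_right_mono ?_ r h1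
    rw [Ideal.map_le_iff_le_comap]
    intro a ha
    have h2 : algebraMap B O a ∈ maximalIdeal O := (IsLocalization.AtPrime.to_map_mem_maximal_iff O m _).2 ha
    rw [Ideal.mem_comap, AdicCompletion.maximalIdeal_eq_map]
    exact Ideal.mem_map_of_mem _ h2
  · have h1 : g b ∈ (maximalIdeal R) ^ r := by rw [hmaxR]; exact (hdvd _ r).2 hb
    rw [AdicCompletion.maximalIdeal_eq_map, ← Ideal.map_pow] at h1
    have h2 : algebraMap B O b ∈ maximalIdeal O ^ r := by
      have h3 : ((maximalIdeal O) ^ r).map (algebraMap O R) ≤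
          RingHom.ker (AdicCompletion.evalₐ (maximalIdeal O) r).toRingHom := by
        rw [Ideal.map_le_iff_le_comap]
        intro a ha
        rw [Ideal.mem_comap, RingHom.mem_ker]
        exact ((AdicCompletion.evalₐ (maximalIdeal O) r).commutes a).trans (Ideal.Quotient.eq_zero_iff_mem.2 ha)
      have h4 := h3 h1
      rw [RingHom.mem_ker] at h4
      exact Ideal.Quotient.eq_zero_iff_mem.1
        (((AdicCompletion.evalₐ (maximalIdeal O) r).commutes (algebraMap B O b)).symm.trans h4)
    rcases Nat.eq_zero_or_pos r with hr | hr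
    · subst hr; simp
    rw [← IsLocalization.AtPrime.map_eq_maximalIdeal m O, ← Ideal.map_pow,
      IsLocalization.algebraMap_mem_map_algebraMap_iff m.primeCompl O] at h2
    obtain ⟨t, ht, htb⟩ := h2
    have hprim : (m ^ r).IsPrimary := by
      refine Ideal.isPrimary_of_isMaximal_radical ?_
      rw [Ideal.radical_pow m hr.ne', hm.isPrime.radical]
      exact hm
    rcases (Ideal.isPrimary_iff.1 hprim).2 (by rwa [mul_comm] at htb) with h | h
    · exact h
    · rw [Ideal.radical_pow m hr.ne', hm.isPrime.radical] at h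
      exact absurd h ht
  · refine ⟨∑ i ∈ Finset.range r, algebraMap k B (PowerSeries.coeff i w) * π ^ i, ?_⟩
    have hτπ : τ π = PowerSeries.X := e.symm_apply_eq.2 hφX.symm
    rw [map_sum]
    simp only [map_mul, map_pow, hτC, hτπ]
    rw [← dvd_neg, neg_sub, PowerSeries.X_pow_dvd_iff]
    intro i hi
    rw [map_sub, map_sum, Finset.sum_eq_single i]
    · simp
    · intro j _ hj
      simp [PowerSeries.coeff_C_mul, PowerSeries.coeff_X_pow, Ne.symm hj]
    · intro h; exact absurd (Finset.mem_range.2 hi) h

end GrothLib.Multicross2
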