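import Groth.Agent.Lib.Multicross2.Axes
import Groth.Agent.Lib.Multicross2.Delta
import Groth.Agent.S7654
import Groth.Agent.Lib.Hensel.CompletionHens
import Groth.Agent.Lib.AdicExtra.Completion

/-!
Delta invariant and branches of a local ring whose completion is a multicross.
-/

set_option autoImplicit false
set_option linter.all false
universe u

open IsLocalRing

namespace GrothLib.Multicross2

theorem delta_branches_of_completion {k : Type u} [Field k] (A : Type u) [CommRing A] [IsLocalRing A]
    [_root_.IsReduced A] (hN : CAlg.IsNagata A) (hdim : ringKrullDim A = 1) (n : ℕ)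
    (e : AdicCompletion (maximalIdeal A) A ≃+*
      (MvPowerSeries (Fin n) k ⧸ Ideal.span {f : MvPowerSeries (Fin n) k |
        ∃ i j : Fin n, i ≠ j ∧ f = MvPowerSeries.X i * MvPowerSeries.X j})) :
    Curv2.deltaInv A + 1 = n ∧ Brnch.numBranches A = n := by
  haveI := hN.1
  haveI : IsNoetherianRing (AdicCompletion (maximalIdeal A) A) :=
    GrothLib.AdicExtra.isNoetherianRing_adicCompletion _
  rcases n with _ | m
  · -- the completion would be a field
    exfalso
    have hbot : Ideal.span {f : MvPowerSeries (Fin 0) k |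
        ∃ i j : Fin 0, i ≠ j ∧ f = MvPowerSeries.X i * MvPowerSeries.X j} = ⊥ := by
      rw [Ideal.span_eq_bot]; rintro _ ⟨i, -⟩; exact i.elim0
    let ψ := e.trans ((Ideal.quotEquivOfEq hbot).trans (RingEquiv.quotientBot _))
    have hF : IsField (MvPowerSeries (Fin 0) k) := by
      refine ⟨⟨0, 1, zero_ne_one⟩, mul_comm, fun {a} ha => ?_⟩
      have hu : IsUnit a := by
        rw [MvPowerSeries.isUnit_iff_constantCoeff, isUnit_iff_ne_zero]
        intro h
        refine ha (MvPowerSeries.ext fun d => ?_)
        rw [show d = 0 from Subsingleton.elim _ _, map_zero, MvPowerSeries.coeff_zero_eq_constantCoeff]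
        exact h
      exact ⟨_, hu.mul_val_inv⟩
    have h1 : ringKrullDim (AdicCompletion (maximalIdeal A) A) = 0 := by
      rw [ringKrullDim_eq_of_ringEquiv ψ]
      exact ringKrullDim_eq_zero_of_isField hF
    rw [GrothLib.AdicExtra.ringKrullDim_adicCompletion, hdim] at h1
    exact absurd h1 one_ne_zero
  let L : (MvPowerSeries (Fin (m + 1)) k ⧸ Ideal.span {f : MvPowerSeries (Fin (m + 1)) k |
      ∃ i j : Fin (m + 1), i ≠ j ∧ f = MvPowerSeries.X i * MvPowerSeries.X j}) →+* (Fin (m + 1) → PowerSeries k) :=
    Ideal.Quotient.lift _ (axes k (m + 1)) fun f hf => (axes_eq_zero_iff k (m + 1) f m.succ_pos).2 hf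
  let ψ : AdicCompletion (maximalIdeal A) A →+* (Fin (m + 1) → PowerSeries k) := L.comp e.toRingHom
  have hL : Function.Injective L := by
    refine RingHom.lift_injective_of_ker_le_ideal _ _ ?_
    intro f hf
    exact (axes_eq_zero_iff k (m + 1) f m.succ_pos).1 hf
  have hψ : Function.Injective ψ := hL.comp e.injective
  have hrange : Set.range ψ = {f : Fin (m + 1) → PowerSeries k |
      ∀ i j, PowerSeries.constantCoeff (f i) = PowerSeries.constantCoeff (f j)} := by
    rw [← range_axes k (m + 1) m.succ_pos]
    ext F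
    constructor
    · rintro ⟨a, rfl⟩
      obtain ⟨f, hf⟩ := Ideal.Quotient.mk_surjective (e a)
      exact ⟨f, congrArg L hf⟩
    · rintro ⟨f, rfl⟩
      exact ⟨e.symm (Ideal.Quotient.mk _ f), congrArg L (e.apply_symm_apply _)⟩
  obtain ⟨hd, hb⟩ := delta_and_branches ψ hψ hrange
  have h1 : Curv2.deltaInv (Curv2.cpl A) = Curv2.deltaInv A := (Groth.Agent.S7654.result A hN hdim).2.2
  have h2 := GrothLib.Hensel.numBranches_completion_eq_of_dim_one A hdim
  refine ⟨?_, h2.symm.trans hb⟩
  rw [← h1, show Curv2.deltaInv (Curv2.cpl A) = m from hd]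
  push_cast
  rfl

end GrothLib.Multicross2
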