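import Groth.Agent.Lib.Multicross2.Dvr
import Groth.Agent.Lib.Wedge4.Basic
import Groth.Agent.Lib.RedTotal.Delta
import Groth.Prelude.Def_Curv2
import Groth.Prelude.Def_Brnch
import Mathlib.RingTheory.AdicCompletion.RingHom
import Mathlib.RingTheory.AdicCompletion.Completeness

/-!
A local ring with `δ + 1` branches is a multicross after completion.
-/

set_option autoImplicit false
set_option linter.all false
set_option maxHeartbeats 1000000
universe u

open IsLocalRing

namespace GrothLib.Multicross2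

/-- Expansions along the branches when `δ + 1` is the number of branches. -/
theorem exists_wedge_map {k A : Type u} [Field k] [CommRing A] [IsLocalRing A] [Algebra k A]
    [_root_.IsReduced A] (hN : CAlg.IsNagata A) (hdim : ringKrullDim A = 1)
    (hres : Function.Surjective (algebraMap k (ResidueField A))) (n : ℕ)
    (hn : Brnch.numBranches A = n) (hδ : Curv2.deltaInv A + 1 = n) :
    0 < n ∧ ∃ φ : A →+* (Fin n → PowerSeries k),
      (∀ c i, φ (algebraMap k A c) i = PowerSeries.C c) ∧
      (∀ a r, a ∈ maximalIdeal A ^ r ↔ ∀ i, PowerSeries.X ^ r ∣ φ a i) ∧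
      (∀ w : Fin n → PowerSeries k,
        (∀ i j, PowerSeries.constantCoeff (w i) = PowerSeries.constantCoeff (w j)) →
        ∀ r, ∃ a, ∀ i, PowerSeries.X ^ r ∣ φ a i - w i) := by
  classical
  haveI := hN.1
  haveI := GrothLib.RedTotal.finite_integralClosure hN
  let B := integralClosure A (FractionRing A)
  haveI : IsNoetherianRing B := IsNoetherianRing.of_finite A B
  haveI : Finite (MaximalSpectrum B) := GrothLib.RedTotal.finite_maximalSpectrum A B
  haveI := Fintype.ofFinite (MaximalSpectrum B)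
  obtain ⟨Φ, -⟩ := GrothLib.RedTotal.exists_equiv_normRed A
  have hcard : Brnch.numBranches A = ENat.card (MaximalSpectrum B) := by
    rw [Brnch.numBranches, if_pos (GrothLib.RedTotal.finite_minimalPrimes A)]
    exact ENat.card_congr
      { toFun := fun m => ⟨m.asIdeal.map Φ.toRingHom, haveI := m.isMaximal; Ideal.map_isMaximal_of_equiv Φ⟩
        invFun := fun m => ⟨m.asIdeal.map Φ.symm.toRingHom, haveI := m.isMaximal; Ideal.map_isMaximal_of_equiv Φ.symm⟩
        left_inv := fun m => MaximalSpectrum.ext (Ideal.map_of_equiv Φ)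
        right_inv := fun m => MaximalSpectrum.ext (Ideal.map_of_equiv Φ.symm) }
  have hcard' : Fintype.card (MaximalSpectrum B) = n := by
    have h := hn
    rw [hcard, ENat.card_eq_coe_fintype_card] at h
    exact_mod_cast h
  obtain ⟨hsurj, hjac⟩ := GrothLib.Wedge4.bijective_and_jacobson_le A B
    (by rw [hcard']; exact le_of_eq hδ)
  let ε : Fin n ≃ MaximalSpectrum B := (Fintype.equivFinOfCardEq hcard').symm
  let m : Fin n → Ideal B := fun i => (ε i).asIdeal
  haveI : ∀ i, (m i).IsMaximal := fun i => (ε i).isMaximal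
  have hBk : ∀ i, Function.Surjective (algebraMap k (B ⧸ m i)) := by
    intro i y
    obtain ⟨a, rfl⟩ := hsurj (ε i) y
    obtain ⟨c, hc⟩ := hres (residue A a)
    refine ⟨c, ?_⟩
    rw [IsScalarTower.algebraMap_apply k A (B ⧸ m i)]
    refine Ideal.Quotient.eq.2 ?_
    rw [← map_sub]
    exact (GrothLib.RedTotal.maximalIdeal_le_comap A B (ε i)).ge (Ideal.Quotient.eq.1 hc)
  have hdvr := fun i : Fin n => GrothLib.Wedge4.isDVR_localization A hdim GrothLib.RedTotal.localization_normal (m i)
  have hτ : ∀ i, ∃ τ : B →+* PowerSeries k, (∀ c, τ (algebraMap k B c) = PowerSeries.C c) ∧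
      (∀ b r, b ∈ m i ^ r ↔ PowerSeries.X ^ r ∣ τ b) ∧ (∀ w r, ∃ b, PowerSeries.X ^ r ∣ τ b - w) := fun i => by
    obtain ⟨_, _⟩ := hdvr i
    exact exists_expansion (m i) (hBk i)
  choose τ hτC hτm hτd using hτ
  let J : Ideal B := ⨅ i, m i
  -- the maximal ideal of `A` is the radical of `B`
  have hJmem : ∀ b : B, b ∈ J ↔ ∃ a ∈ maximalIdeal A, algebraMap A B a = b := by
    intro b
    simp only [J, Submodule.mem_iInf]
    constructor
    · intro hb
      obtain ⟨a, ha⟩ := hjac b fun M => by
        have := hb (ε.symm M)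
        simpa [m] using this
      refine ⟨a, ?_, ha⟩
      obtain ⟨M, hM⟩ := Ideal.exists_maximal B
      have h := hb (ε.symm ⟨M, hM⟩)
      rw [← show algebraMap A B a = b from ha] at h
      exact (GrothLib.RedTotal.maximalIdeal_le_comap A B (ε (ε.symm ⟨M, hM⟩))).le h
    · rintro ⟨a, ha, rfl⟩ i
      exact (GrothLib.RedTotal.maximalIdeal_le_comap A B (ε i)).ge ha
  have hJpow : ∀ r, 1 ≤ r → ∀ b : B, b ∈ J ^ r ↔ ∃ a ∈ maximalIdeal A ^ r, algebraMap A B a = b := by
    intro r hr
    induction r, hr using Nat.le_induction with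
    | base => simpa using hJmem
    | succ r hr ih =>
      intro b
      constructor
      · intro hb
        rw [pow_succ] at hb
        refine Submodule.mul_induction_on hb (fun y hy z hz => ?_) fun y z hy hz => ?_
        · obtain ⟨a, ha, rfl⟩ := (ih y).1 hy
          obtain ⟨a', ha', rfl⟩ := (hJmem z).1 hz
          exact ⟨a * a', by rw [pow_succ]; exact Ideal.mul_mem_mul ha ha', map_mul _ _ _⟩
        · obtain ⟨a, ha, rfl⟩ := hy
          obtain ⟨a', ha', rfl⟩ := hz
          exact ⟨a + a', add_mem ha ha', map_add _ _ _⟩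
      · rintro ⟨a, ha, rfl⟩
        have hle : (maximalIdeal A).map (algebraMap A B) ≤ J :=
          Ideal.map_le_iff_le_comap.2 fun a ha => (hJmem _).2 ⟨a, ha, rfl⟩
        refine Ideal.pow_right_mono hle (r + 1) ?_
        rw [← Ideal.map_pow]
        exact Ideal.mem_map_of_mem _ ha
  have hcop : Pairwise fun i j => IsCoprime (m i) (m j) := fun i j hij =>
    Ideal.isCoprime_iff_sup_eq.2 ((ε i).isMaximal.coprime_of_ne (ε j).isMaximal
      fun h => hij (ε.injective (MaximalSpectrum.ext h)))
  have hJr : ∀ r b, b ∈ J ^ r ↔ ∀ i, b ∈ m i ^ r := by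
    intro r b
    constructor
    · exact fun hb i => Ideal.pow_right_mono (iInf_le m i) r hb
    · intro hb
      have h1 : J = ∏ i, m i := by
        rw [Ideal.prod_eq_iInf_of_pairwise_isCoprime (s := Finset.univ) (fun i _ j _ hij => hcop hij)]
        simp [J]
      rw [h1, ← Finset.prod_pow, Ideal.prod_eq_iInf_of_pairwise_isCoprime (s := Finset.univ)
        (fun i _ j _ hij => (hcop hij).pow)]
      simp only [Submodule.mem_iInf]
      exact fun i _ => hb i
  have hn0 : 0 < n := by
    rcases Nat.eq_zero_or_pos n with h | h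
    · subst h
      exact absurd hδ (by simp)
    · exact h
  refine ⟨hn0, Pi.ringHom fun i => (τ i).comp (algebraMap A B), fun c i => ?_, fun a r => ?_, fun w hw r => ?_⟩
  · show τ i (algebraMap A B (algebraMap k A c)) = _
    rw [← IsScalarTower.algebraMap_apply k A B]
    exact hτC i c
  · rcases Nat.eq_zero_or_pos r with hr | hr
    · subst hr; simp
    constructor
    · intro ha i
      exact (hτm i _ r).1 ((hJr r _).1 ((hJpow r hr _).2 ⟨a, ha, rfl⟩) i)
    · intro h
      obtain ⟨a', ha', he⟩ := (hJpow r hr _).1 ((hJr r _).2 fun i => (hτm i _ r).2 (h i))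
      have : a' = a := IsFractionRing.injective A (FractionRing A) (congrArg Subtype.val he)
      rwa [← this]
  · -- density
    rcases Nat.eq_zero_or_pos r with hr | hr
    · subst hr; exact ⟨0, fun i => by simp⟩
    choose b hb using fun i => hτd i (w i) r
    obtain ⟨y, hy⟩ := Ideal.quotientInfToPiQuotient_surj (I := fun i => m i ^ r)
      (fun i j hij => (hcop hij).pow) (fun i => Ideal.Quotient.mk _ (b i))
    obtain ⟨b₀, rfl⟩ := Ideal.Quotient.mk_surjective y
    have hb₀ : ∀ i, PowerSeries.X ^ r ∣ τ i b₀ - w i := fun i => by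
      have h1 : b₀ - b i ∈ m i ^ r := Ideal.Quotient.eq.1 (congrFun hy i)
      have h2 := (hτm i _ r).1 h1
      rw [map_sub] at h2
      have h3 := dvd_add h2 (hb i)
      rwa [sub_add_sub_cancel] at h3
    let c : k := PowerSeries.constantCoeff (w ⟨0, hn0⟩)
    have hJb : b₀ - algebraMap A B (algebraMap k A c) ∈ J := by
      simp only [J, Submodule.mem_iInf]
      intro i
      rw [← pow_one (m i), hτm i _ 1, map_sub, ← IsScalarTower.algebraMap_apply k A B, hτC, pow_one,
        PowerSeries.X_dvd_iff, map_sub, PowerSeries.constantCoeff_C]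
      have h1 : PowerSeries.constantCoeff (τ i b₀ - w i) = 0 :=
        PowerSeries.X_dvd_iff.1 ((dvd_pow_self _ hr.ne').trans (hb₀ i))
      rw [map_sub, sub_eq_zero] at h1
      rw [h1, hw i ⟨0, hn0⟩, sub_self]
    obtain ⟨a, -, ha⟩ := (hJmem _).1 hJb
    refine ⟨a + algebraMap k A c, fun i => ?_⟩
    show PowerSeries.X ^ r ∣ τ i (algebraMap A B (a + algebraMap k A c)) - w i
    rw [map_add, ha, sub_add_cancel]
    exact hb₀ i

/-- The completion along such expansions. -/
theorem exists_completion_hom {k A : Type u} [Field k] [CommRing A] [IsLocalRing A] [Algebra k A] (n : ℕ)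
    (φ : A →+* (Fin n → PowerSeries k)) (hn : 0 < n)
    (hφC : ∀ c i, φ (algebraMap k A c) i = PowerSeries.C c)
    (hφm : ∀ a r, a ∈ maximalIdeal A ^ r ↔ ∀ i, PowerSeries.X ^ r ∣ φ a i)
    (hφd : ∀ w : Fin n → PowerSeries k,
        (∀ i j, PowerSeries.constantCoeff (w i) = PowerSeries.constantCoeff (w j)) →
        ∀ r, ∃ a, ∀ i, PowerSeries.X ^ r ∣ φ a i - w i)
    (hres : Function.Surjective (algebraMap k (ResidueField A))) :
    ∃ ψ : AdicCompletion (maximalIdeal A) A →+* (Fin n → PowerSeries k),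
      Function.Injective ψ ∧
      (∀ c : k, ψ (algebraMap A (AdicCompletion (maximalIdeal A) A) (algebraMap k A c)) =
        fun _ => algebraMap k (PowerSeries k) c) ∧
      Set.range ψ = {f : Fin n → PowerSeries k |
        ∀ i j : Fin n, PowerSeries.constantCoeff (f i) = PowerSeries.constantCoeff (f j)} := by
  classical
  let mA := maximalIdeal A
  let I : Ideal (PowerSeries k) := Ideal.span {PowerSeries.X}
  have hI : ∀ (r : ℕ) (f : PowerSeries k), f ∈ I ^ r ↔ PowerSeries.X ^ r ∣ f := fun r f => by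
    rw [Ideal.span_singleton_pow, Ideal.mem_span_singleton]
  let q : ∀ i r, A ⧸ mA ^ r →+* PowerSeries k ⧸ I ^ r := fun i r =>
    Ideal.quotientMap (I ^ r) ((Pi.evalRingHom _ i).comp φ) fun a ha => (hI r _).2 ((hφm a r).1 ha i)
  let f : ∀ (i : Fin n) (r : ℕ), AdicCompletion mA A →+* PowerSeries k ⧸ I ^ r := fun i r =>
    (q i r).comp (AdicCompletion.evalₐ mA r).toRingHom
  -- lifts modulo the powers
  have hlift : ∀ (z : AdicCompletion mA A) (r : ℕ), ∃ a : A,
      ∀ s ≤ r, AdicCompletion.evalₐ mA s z = Ideal.Quotient.mk _ a := by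
    intro z r
    induction z using AdicCompletion.induction_on with
    | h x =>
      exact ⟨x.val r, fun s hs => (AdicCompletion.evalₐ_mk mA s x).trans (AdicCompletion.Ideal.mk_eq_mk mA hs x).symm⟩
  have hf : ∀ i {s r : ℕ} (hle : s ≤ r), (Ideal.Quotient.factorPow I hle).comp (f i r) = f i s := by
    intro i s r hle
    refine RingHom.ext fun z => ?_
    obtain ⟨a, ha⟩ := hlift z r
    show Ideal.Quotient.factorPow I hle (q i r (AdicCompletion.evalₐ mA r z)) = q i s (AdicCompletion.evalₐ mA s z)
    rw [ha r le_rfl, ha s hle]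
    rfl
  let ψ : AdicCompletion mA A →+* (Fin n → PowerSeries k) :=
    Pi.ringHom fun i => IsAdicComplete.liftRingHom I (f i) (fun hle => hf i hle)
  have hψ : ∀ z i r a, AdicCompletion.evalₐ mA r z = Ideal.Quotient.mk _ a →
      PowerSeries.X ^ r ∣ ψ z i - φ a i := by
    intro z i r a ha
    rw [← hI, ← Ideal.Quotient.eq]
    show Ideal.Quotient.mk (I ^ r) (IsAdicComplete.liftRingHom I (f i) _ z) = _
    rw [IsAdicComplete.mk_liftRingHom]
    show q i r (AdicCompletion.evalₐ mA r z) = _
    rw [ha]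
    rfl
  have heq0 : ∀ g : PowerSeries k, (∀ r, PowerSeries.X ^ r ∣ g) → g = 0 := fun g h =>
    PowerSeries.ext fun j => by
      rw [map_zero]; exact PowerSeries.X_pow_dvd_iff.1 (h (j + 1)) j (Nat.lt_succ_self j)
  refine ⟨ψ, (injective_iff_map_eq_zero ψ).2 fun z hz => ?_, fun c => funext fun i => ?_, ?_⟩
  · refine AdicCompletion.ext_evalₐ fun r => ?_
    obtain ⟨a, ha⟩ := hlift z r
    rw [map_zero, ha r le_rfl, Ideal.Quotient.eq_zero_iff_mem, hφm]
    intro i
    have h := hψ z i r a (ha r le_rfl)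
    rw [hz, Pi.zero_apply, zero_sub, dvd_neg] at h
    exact h
  · refine sub_eq_zero.1 (heq0 _ fun r => ?_)
    have h := hψ (algebraMap A _ (algebraMap k A c)) i r (algebraMap k A c)
      ((AdicCompletion.evalₐ mA r).commutes _)
    rw [hφC] at h
    rw [PowerSeries.algebraMap_apply, Algebra.algebraMap_self, RingHom.id_apply]
    exact h
  ext w
  constructor
  · rintro ⟨z, rfl⟩ i j
    obtain ⟨a, ha⟩ := hlift z 1
    obtain ⟨c, hc⟩ := hres (residue A a)
    have ha1 : algebraMap k A c - a ∈ mA := Ideal.Quotient.eq.1 hc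
    have key : ∀ i, PowerSeries.constantCoeff (ψ z i) = c := fun i => by
      have h1 := hψ z i 1 a (ha 1 le_rfl)
      have h2 := (hφm _ 1).1 (by rw [pow_one]; exact ha1) i
      rw [pow_one, PowerSeries.X_dvd_iff, map_sub, sub_eq_zero] at h1
      rw [map_sub, Pi.sub_apply, hφC, pow_one, PowerSeries.X_dvd_iff, map_sub, sub_eq_zero,
        PowerSeries.constantCoeff_C] at h2
      rw [h1, ← h2]
    rw [key i, key j]
  · intro hw
    choose a ha using hφd w hw
    have hstep : ∀ {s r : ℕ}, s ≤ r → a s - a r ∈ mA ^ s := fun {s r} hle => by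
      refine (hφm _ s).2 fun i => ?_
      rw [map_sub, Pi.sub_apply, show φ (a s) i - φ (a r) i = (φ (a s) i - w i) - (φ (a r) i - w i) by ring]
      exact dvd_sub (ha s i) ((pow_dvd_pow _ hle).trans (ha r i))
    let x : AdicCompletion.AdicCauchySequence mA A :=
      ⟨a, fun {s r} hle => by rw [SModEq.sub_mem, smul_eq_mul, Ideal.mul_top]; exact hstep hle⟩
    refine ⟨AdicCompletion.mk mA A x, funext fun i => sub_eq_zero.1 (heq0 _ fun r => ?_)⟩
    have h1 := hψ (AdicCompletion.mk mA A x) i r (a r) (AdicCompletion.evalₐ_mk mA r x)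
    have h2 := dvd_add h1 (ha r i)
    rwa [sub_add_sub_cancel] at h2

end GrothLib.Multicross2
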